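import Cfsg.Agent.H569.HNFive
import Cfsg.Agent.Lib.ThompsonPQ

/-!
# TEAM EB, row HN: local data of an element of order 5 of the Harada-Norton group

`a ∈ C(W0)` of order 5 of type I (`ρ a = φA c5`).

* `exists_sylow`: the Sylow 2-subgroups of `C(a)` are nonabelian of order 8, and commute with `W0` for a suitable
  choice;
* `exists_E`: `C(x)` has a normal 2-subgroup containing its centraliser, for all 2-elements `x` with `W0 ∈ ⟨x⟩`.
-/

set_option autoImplicit false
set_option maxRecDepth 100000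

namespace Cfsg.Agent.H481.EB.HN

open Cfsg.Agent.HN.Pres Cfsg.Agent.HN.H0Basic
open Cfsg.Agent.HN.P1408 hiding ψ
open Cfsg.Agent.HN.XWords (W0 W0_sq)
open Cfsg Cfsg.Agent
open Cfsg.Agent.KFacts.HN
open Cfsg.Agent.CpAutHN.PPFacts (isPGroup_ker)
open Cfsg.Agent.CpAutHNFive Cfsg.Agent.CpAutHNFive.LFive Cfsg.Agent.CpAutHNFive.PFive
open Cfsg.Agent.CpAutHNFive.TFive
open Cfsg.Agent.H569.HNFive
open Subgroup

/-! ### the centraliser of `a` and `W0` -/

theorem perm_sq : ∀ b : Equiv.Perm (Fin 5), b ^ 8 = 1 → Equiv.Perm.sign b = 1 → b * b = 1 := by decide +kernel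

theorem A5_sq {b : A5} (h : b ^ 8 = 1) : b * b = 1 :=
  Subtype.ext (perm_sq b (congrArg Subtype.val h) (Equiv.Perm.mem_alternatingGroup.1 b.2))

theorem mem_range_iff {a : PP} (hao : orderOf a = 5) (ha : ρ a = φA c5) {z : Lq} :
    z ∈ (fC a).range ↔ ∃ (i : ℕ) (b : A5), z = φA (c5 ^ i) * φB b := by
  rw [mem_range hao, ha]
  constructor
  · intro hc
    obtain ⟨x, b, rfl⟩ := mem_LL.1 (CpAutHN.LqFacts.mem_LL_of_comm c5_ne hc)
    obtain ⟨h4, -⟩ := coord_of_comm (a := x) (b := b) (a' := c5) (b' := 1) (by rw [map_one, mul_one]; exact hc)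
    obtain ⟨i, rfl⟩ := cent_c5 h4
    exact ⟨i, b, rfl⟩
  · rintro ⟨i, b, rfl⟩
    have h1 := comm_AB c5 b
    calc φA (c5 ^ i) * φB b * φA c5 = φA (c5 ^ i) * (φB b * φA c5) := by group
      _ = φA (c5 ^ i) * φA c5 * φB b := by rw [← h1]; group
      _ = φA c5 * (φA (c5 ^ i) * φB b) := by rw [← map_mul, ← pow_succ, pow_succ', map_mul]; group

theorem card_range {a : PP} (hao : orderOf a = 5) (ha : ρ a = φA c5) : Nat.card ↥(fC a).range = 300 := by
  have h1 : (fC a).range = ((zpowers c5).prod (⊤ : Subgroup A5)).map φ2 := by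
    ext z
    rw [mem_range_iff hao ha]
    constructor
    · rintro ⟨i, b, rfl⟩
      exact ⟨(c5 ^ i, b), Subgroup.mem_prod.2 ⟨pow_mem (mem_zpowers _) i, mem_top _⟩, rfl⟩
    · rintro ⟨⟨x, b⟩, hx, rfl⟩
      obtain ⟨h2, -⟩ := Subgroup.mem_prod.1 hx
      have : Finite A5 := inferInstance
      obtain ⟨i, hi⟩ : ∃ i : ℕ, c5 ^ i = x := Submonoid.mem_powers_iff _ _ |>.1 (mem_powers_iff_mem_zpowers.2 h2)
      exact ⟨i, b, by rw [φ2_apply, hi]⟩
  have hinj : Function.Injective φ2 := by
    rintro ⟨a, b⟩ ⟨a', b'⟩ h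
    obtain ⟨h1, h2⟩ := φ2_inj h
    exact Prod.ext h1 h2
  rw [h1, ← Nat.card_congr (((zpowers c5).prod (⊤ : Subgroup A5)).equivMapOfInjective φ2 hinj).toEquiv,
    Nat.card_congr (Subgroup.prodEquiv _ _).toEquiv, Nat.card_prod, Nat.card_zpowers, c5_order, Subgroup.card_top,
    card_A5]

theorem fix_one {a v : PP} (ha : ρ a = φA c5) (hv : ρ v = 1) (hc : v * a = a * v) : (v : G) = 1 ∨ (v : G) = W0 :=
  eq_of_ker (ha.trans φA_c5) (fun _ hm h => fix_A hm h) hv hc

theorem card_ker_fC {a : PP} (ha : ρ a = φA c5) : Nat.card ↥(fC a).ker = 2 := by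
  have hle : (fC a).ker.map (toPP a) ≤ zpowers (⟨W0, W0_mem_PP⟩ : PP) := by
    rintro _ ⟨u, hu, rfl⟩
    rcases fix_one ha (v := toPP a u) hu (toPP_comm a u) with h3 | h3
    · have : toPP a u = 1 := Subtype.ext h3
      rw [this]
      exact one_mem _
    · have : toPP a u = ⟨W0, W0_mem_PP⟩ := Subtype.ext h3
      rw [this]
      exact mem_zpowers _
  have h4 := Subgroup.card_dvd_of_le hle
  rw [Nat.card_zpowers, ← Subgroup.orderOf_coe] at h4
  change _ ∣ orderOf W0 at h4
  rw [order_W0, ← Nat.card_congr ((fC a).ker.equivMapOfInjective (toPP a) (toPP_inj a)).toEquiv] at h4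
  rcases (Nat.dvd_prime Nat.prime_two).1 h4 with h5 | h5
  · exfalso
    rw [Subgroup.card_eq_one] at h5
    have h6 : (⟨sx a, mem_centralizer_singleton_iff.2 rfl⟩ :
        ↥(centralizer ({sx a} : Set ↥(centralizer ({(a : G)} : Set G))))) ∈ (fC a).ker := by
      obtain ⟨u, hu, huW⟩ := W0_mem_RS
      have h7 : toPP a ⟨sx a, mem_centralizer_singleton_iff.2 rfl⟩ = u := Subtype.ext huW.symm
      change ρ (toPP a _) = 1
      rw [h7]
      exact hu
    rw [h5, Subgroup.mem_bot] at h6
    have h7 : W0 = 1 := congrArg (fun t : ↥(centralizer ({sx a} : Set ↥(centralizer ({(a : G)} : Set G)))) =>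
      ((t : ↥(centralizer ({(a : G)} : Set G))) : G)) h6
    exact W0_ne h7
  · exact h5

theorem card_cent {a : PP} (hao : orderOf a = 5) (ha : ρ a = φA c5) :
    Nat.card ↥(centralizer ({sx a} : Set ↥(centralizer ({(a : G)} : Set G)))) = 600 := by
  rw [← (fC a).ker.card_mul_index, Subgroup.index_ker, card_range hao ha, card_ker_fC ha]

/-! ### the Sylow 2-subgroup -/

theorem sq_mem {a : PP} (hao : orderOf a = 5) (ha : ρ a = φA c5) {u : PP} (hc : u * a = a * u) (h8 : u ^ 8 = 1) :
    ((u * u : PP) : G) = 1 ∨ ((u * u : PP) : G) = W0 := by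
  have h1 : ρ u ∈ (fC a).range := by
    rw [mem_range hao, ← map_mul, hc, map_mul]
  obtain ⟨i, b, hib⟩ := (mem_range_iff hao ha).1 h1
  have h2 : (φA (c5 ^ i) * φB b) ^ 8 = 1 := by rw [← hib, ← map_pow, h8, map_one]
  obtain ⟨h3, h4⟩ := pow_coord h2
  have h5 : c5 ^ i = 1 := by
    have h6 : (c5 ^ i) ^ 5 = 1 := by rw [← pow_mul, mul_comm, pow_mul, c5_pow, one_pow]
    have h7 : (c5 ^ i) ^ 16 = 1 := by rw [show 16 = 8 * 2 from rfl, pow_mul, h3, one_pow]
    have h9 : (c5 ^ i) ^ 16 = c5 ^ i := by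
      rw [show 16 = 5 * 3 + 1 from rfl, pow_add, pow_mul, h6, one_pow, one_mul, pow_one]
    rw [← h9, h7]
  refine fix_one ha ?_ ?_
  · rw [map_mul, hib, h5, map_one, one_mul, ← map_mul, A5_sq h4, map_one]
  · rw [mul_assoc, hc, ← mul_assoc, hc, mul_assoc]

/-- **the Sylow 2-subgroups of `C(a)`** -/
theorem exists_sylow {a : PP} (hao : orderOf a = 5) (ha : ρ a = φA c5) :
    ∃ P : Sylow 2 ↥(centralizer ({(a : G)} : Set G)), Nat.card P = 8 ∧ ¬ IsMulCommutative P ∧
      ∀ q ∈ P, Commute W0 (q : G) := by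
  have : Fact (Nat.Prime 2) := ⟨Nat.prime_two⟩
  have hps : IsPGroup 2 ↥(zpowers (sx a)) :=
    IsPGroup.of_card (n := 1) (by rw [Nat.card_zpowers, order_sx a, pow_one])
  obtain ⟨P, hP⟩ := hps.exists_le_sylow
  have hsP : sx a ∈ (P : Subgroup ↥(centralizer ({(a : G)} : Set G))) := hP (mem_zpowers _)
  have hs1 : sx a ≠ 1 := by
    intro h
    have h1 := order_sx a
    rw [h, orderOf_one] at h1
    norm_num at h1
  have hnt : Nontrivial ↥(P : Subgroup ↥(centralizer ({(a : G)} : Set G))) :=
    ⟨⟨⟨sx a, hsP⟩, 1, fun h => hs1 (congrArg Subtype.val h)⟩⟩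
  have hcen : Nontrivial (Subgroup.center ↥(P : Subgroup ↥(centralizer ({(a : G)} : Set G)))) :=
    P.isPGroup'.center_nontrivial
  -- an involution of the centre
  have hZp : IsPGroup 2 ↥(center ↥(P : Subgroup ↥(centralizer ({(a : G)} : Set G)))) := P.isPGroup'.to_subgroup _
  obtain ⟨n, hn, hcard⟩ := (hZp.nontrivial_iff_card).1 hcen
  have h2 : 2 ∣ Nat.card ↥(center ↥(P : Subgroup ↥(centralizer ({(a : G)} : Set G)))) := by
    rw [hcard]
    exact dvd_pow_self 2 (by omega)
  obtain ⟨z, hz⟩ := exists_prime_orderOf_dvd_card' 2 h2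
  have hz2 : orderOf (((z : ↥(P : Subgroup ↥(centralizer ({(a : G)} : Set G)))) :
      ↥(centralizer ({(a : G)} : Set G)))) = 2 := by
    rw [Subgroup.orderOf_coe, Subgroup.orderOf_coe, hz]
  have hzc : ∀ q ∈ (P : Subgroup ↥(centralizer ({(a : G)} : Set G))),
      q * ((z : ↥(P : Subgroup ↥(centralizer ({(a : G)} : Set G)))) : ↥(centralizer ({(a : G)} : Set G))) =
      ((z : ↥(P : Subgroup ↥(centralizer ({(a : G)} : Set G)))) : ↥(centralizer ({(a : G)} : Set G))) * q :=
    fun q hq => congrArg Subtype.val (mem_center_iff.1 z.2 ⟨q, hq⟩)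
  have hzs : ((z : ↥(P : Subgroup ↥(centralizer ({(a : G)} : Set G)))) :
      ↥(centralizer ({(a : G)} : Set G))) = sx a := unique_one ha _ hz2 (hzc _ hsP).symm
  rw [hzs] at hzc
  have hPD : (P : Subgroup ↥(centralizer ({(a : G)} : Set G))) ≤ centralizer ({sx a} : Set _) :=
    fun q hq => mem_centralizer_singleton_iff.2 (hzc q hq)
  have hc8 : Nat.card P = 8 := by
    have h3 := (P.subtype hPD).card_eq_multiplicity
    rw [card_cent hao ha] at h3
    have h4 : Nat.card ↥(P.subtype hPD) = Nat.card P :=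
      Nat.card_congr (subgroupOfEquivOfLe hPD).toEquiv
    have h6 : Nat.card P = 2 ^ (600 : ℕ).factorization 2 := h4.symm.trans h3
    rw [h6]
    have h5 : (600 : ℕ).factorization 2 = 3 := by
      have h7 : 3 ≤ (600 : ℕ).factorization 2 :=
        (Nat.prime_two.pow_dvd_iff_le_factorization (by norm_num)).1 (by norm_num)
      have h8 : ¬ 4 ≤ (600 : ℕ).factorization 2 := fun h =>
        absurd ((Nat.prime_two.pow_dvd_iff_le_factorization (by norm_num)).2 h) (by norm_num)
      omega
    rw [h5]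
    norm_num
  refine ⟨P, hc8, ?_, ?_⟩
  · intro hcomm
    have hc : ∀ u v : ↥(P : Subgroup ↥(centralizer ({(a : G)} : Set G))), u * v = v * u := fun u v =>
      hcomm.is_comm.comm u v
    let s : ↥(P : Subgroup ↥(centralizer ({(a : G)} : Set G))) →* ↥(P : Subgroup ↥(centralizer ({(a : G)} : Set G))) :=
      { toFun := fun u => u * u
        map_one' := one_mul 1
        map_mul' := fun u v => by
          show u * v * (u * v) = u * u * (v * v)
          rw [mul_assoc, ← mul_assoc v, hc v u, mul_assoc, mul_assoc] }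
    let zs : ↥(P : Subgroup ↥(centralizer ({(a : G)} : Set G))) := ⟨sx a, hsP⟩
    have hzs2 : orderOf zs = 2 := by
      rw [← Subgroup.orderOf_coe]
      exact order_sx a
    have key : ∀ u : ↥(P : Subgroup ↥(centralizer ({(a : G)} : Set G))),
        (((u : ↥(centralizer ({(a : G)} : Set G))) : G) = 1 ∨ ((u : ↥(centralizer ({(a : G)} : Set G))) : G) = W0) →
        u ∈ zpowers zs := by
      rintro u (h | h)
      · have : u = 1 := Subtype.ext (Subtype.ext h)
        rw [this]
        exact one_mem _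
      · have : u = zs := Subtype.ext (Subtype.ext h)
        rw [this]
        exact mem_zpowers _
    have htoPP : ∀ u : ↥(P : Subgroup ↥(centralizer ({(a : G)} : Set G))), ∃ v : PP,
        (v : G) = ((u : ↥(centralizer ({(a : G)} : Set G))) : G) ∧ v * a = a * v := fun u =>
      comm_elt (hzc _ u.2)
    have hker : s.ker ≤ zpowers zs := by
      intro u hu
      obtain ⟨v, hv, hva⟩ := htoPP u
      apply key
      have h3 : u * u = 1 := hu
      have h4 : (v : G) * v = 1 := by
        rw [hv]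
        exact congrArg (fun t : ↥(P : Subgroup ↥(centralizer ({(a : G)} : Set G))) =>
          ((t : ↥(centralizer ({(a : G)} : Set G))) : G)) h3
      rw [← hv]
      exact only_one ha h4 hva
    have hran : s.range ≤ zpowers zs := by
      rintro _ ⟨u, rfl⟩
      obtain ⟨v, hv, hva⟩ := htoPP u
      apply key
      have h3 : u ^ 8 = 1 := by
        have h4 : u ^ Nat.card ↥(P : Subgroup ↥(centralizer ({(a : G)} : Set G))) = 1 := pow_card_eq_one'
        rwa [hc8] at h4
      have h4 : v ^ 8 = 1 := by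
        apply Subtype.ext
        change (v : G) ^ 8 = 1
        rw [hv]
        exact congrArg (fun t : ↥(P : Subgroup ↥(centralizer ({(a : G)} : Set G))) =>
          ((t : ↥(centralizer ({(a : G)} : Set G))) : G)) h3
      have h5 := sq_mem hao ha hva h4
      have h6 : ((s u : ↥(centralizer ({(a : G)} : Set G))) : G) = ((v * v : PP) : G) := by
        change ((u : ↥(centralizer ({(a : G)} : Set G))) : G) * ((u : ↥(centralizer ({(a : G)} : Set G))) : G) =
          (v : G) * v
        rw [hv]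
      rw [h6]
      exact h5
    have h3 := Subgroup.card_le_of_le hker
    have h4 := Subgroup.card_le_of_le hran
    rw [Nat.card_zpowers, hzs2] at h3 h4
    have h5 := s.ker.card_mul_index
    rw [Subgroup.index_ker] at h5
    have h6 : Nat.card ↥(P : Subgroup ↥(centralizer ({(a : G)} : Set G))) = 8 := hc8
    rw [h6] at h5
    have h7 := Nat.mul_le_mul h3 h4
    omega
  · intro q hq
    have h3 := congrArg Subtype.val (hzc q hq)
    exact h3.symm

/-! ### centralisers of 2-elements -/

/-- an element of `zpowers x` commutes with the elements commuting with `x` -/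
theorem comm_of_zpow {x w g : G} (hw : w ∈ zpowers x) (hg : g * x = x * g) : g * w = w * g := by
  obtain ⟨k, rfl⟩ := mem_zpowers_iff.1 hw
  exact ((show Commute g x from hg).zpow_right k).eq

/-- **`C(x)` has a normal 2-subgroup containing its centraliser** -/
theorem exists_E {x : G} (hx : ∃ j : ℕ, orderOf x = 2 ^ j) (hW : W0 ∈ zpowers x) :
    ∃ E : Subgroup ↥(centralizer ({x} : Set G)), E.Normal ∧ IsPGroup 2 ↥E ∧
      centralizer (E : Set ↥(centralizer ({x} : Set G))) ≤ E := by
  have : Fact (Nat.Prime 2) := ⟨Nat.prime_two⟩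
  have hPP : ∀ g : G, g * x = x * g → g ∈ PP := fun g hg => mem_PP.2 (comm_of_zpow hW hg)
  have hnor : (RS.subgroupOf (centralizer ({x} : Set G))).Normal := by
    refine ⟨fun n hn g => ?_⟩
    rw [mem_subgroupOf] at hn ⊢
    exact conj_RS (hPP _ (mem_centralizer_singleton_iff.1 g.2)) hn
  have hD : IsPGroup 2 ↥(RS.subgroupOf (centralizer ({x} : Set G))) := by
    intro u
    obtain ⟨k, hk⟩ := RS_isPGroup ⟨_, mem_subgroupOf.1 u.2⟩
    refine ⟨k, Subtype.ext (Subtype.ext ?_)⟩
    have h0 := congrArg Subtype.val hk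
    exact h0
  have hKn : (centralizer ((RS.subgroupOf (centralizer ({x} : Set G)) : Subgroup _) :
      Set ↥(centralizer ({x} : Set G)))).Normal := inferInstance
  -- elements of odd order
  have hodd : ∀ g : ↥(centralizer ({x} : Set G)), g ∈ centralizer ((RS.subgroupOf (centralizer ({x} : Set G)) :
      Subgroup _) : Set ↥(centralizer ({x} : Set G))) → Odd (orderOf g) → g = 1 := by
    intro g hg ho
    have hgx : (g : G) * x = x * g := mem_centralizer_singleton_iff.1 g.2
    have hnorm : ∀ h : G, h ∈ PP → h ∈ normalizer (RS : Set G) := by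
      intro h hh
      rw [Subgroup.mem_normalizer_iff]
      intro r
      constructor
      · intro hr
        exact conj_RS hh hr
      · intro hr
        have h1 := conj_RS (PP.inv_mem hh) hr
        have h2 : h⁻¹ * (h * r * h⁻¹) * h⁻¹⁻¹ = r := by group
        rwa [h2] at h1
    have h1 := Lib.ThompsonPQ.thompson_p_times_q 2 (zpowers x) (zpowers (g : G)) RS
      (by
        obtain ⟨j, hj⟩ := hx
        exact IsPGroup.of_card (n := j) (by rw [Nat.card_zpowers, hj]))
      (by
        rw [Nat.card_zpowers, Subgroup.orderOf_coe]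
        exact Nat.Coprime.symm ((Nat.coprime_two_left).2 ho))
      RS_isPGroup
      (by
        rw [zpowers_le, mem_centralizer_iff]
        intro h hh
        exact (comm_of_zpow hh hgx.symm).symm)
      (by
        rw [zpowers_le]
        exact hnorm _ (hPP _ rfl))
      (by
        rw [zpowers_le]
        exact hnorm _ (hPP _ hgx))
      (by
        rintro r ⟨hr, hrx⟩
        have h2 : x * r = r * x := mem_centralizer_iff.1 hrx x (mem_zpowers x)
        rw [mem_centralizer_iff]
        intro h hh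
        have h3 := mem_centralizer_iff.1 hg ⟨r, mem_centralizer_singleton_iff.2 h2.symm⟩ (mem_subgroupOf.2 hr)
        have h4 : r * (g : G) = g * r := congrArg Subtype.val h3
        exact (comm_of_zpow hh h4).symm)
    have h2 : (g : G) = 1 ∨ (g : G) = W0 := by
      refine cent_RS fun y hy => ?_
      exact (mem_centralizer_iff.1 (h1 (mem_zpowers (g : G))) y hy).symm
    rcases h2 with h2 | h2
    · exact Subtype.ext h2
    · exfalso
      rw [← Subgroup.orderOf_coe, h2, order_W0] at ho
      exact absurd ho (by decide)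
  have hK : IsPGroup 2 ↥(centralizer ((RS.subgroupOf (centralizer ({x} : Set G)) : Subgroup _) :
      Set ↥(centralizer ({x} : Set G)))) := by
    intro u
    obtain ⟨k, m, hm, hkm⟩ := Nat.exists_eq_two_pow_mul_odd (orderOf_pos u).ne'
    refine ⟨k, ?_⟩
    have h1 : orderOf (u ^ 2 ^ k) = m := by
      rw [orderOf_pow_of_dvd (by positivity) ⟨m, hkm⟩, hkm, Nat.mul_div_cancel_left _ (by positivity)]
    have h2 := hodd _ ((u ^ 2 ^ k).2) (by rw [Subgroup.orderOf_coe, h1]; exact hm)
    exact Subtype.ext h2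
  refine ⟨RS.subgroupOf (centralizer ({x} : Set G)) ⊔
    centralizer ((RS.subgroupOf (centralizer ({x} : Set G)) : Subgroup _) :
      Set ↥(centralizer ({x} : Set G))), inferInstance, hD.to_sup_of_normal_right hK, ?_⟩
  refine le_trans (centralizer_le ?_) le_sup_right
  exact SetLike.coe_subset_coe.2 le_sup_left

end Cfsg.Agent.H481.EB.HN
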