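import Cfsg.Agent.H684.EB.N8
import Cfsg.Agent.H104.EB.COne
import Cfsg.Agent.H481.EB.Out
import Cfsg.Agent.H481.EB.Univ
import Cfsg.Agent.H481.EB.HNLoc
import Cfsg.Agent.H481.EB.HNFix

/-!
# TEAM EB: the row HN of S4522

`y` of order 5 in one factor `A5` of `C(2B) = 2^(1+8).(A5 wr 2)`, real, `C(y)` has quaternion Sylow 2-subgroups: (N8) for
`G = HN`; every automorphism of `HN` fixing `y` is inner: (OUT) for `G = HN.2`.
-/

set_option autoImplicit false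

namespace Cfsg.Agent.H481.EB.HN

open Cfsg.Agent.HN.XWords (W0 W0_sq)
open Cfsg Cfsg.Agent
open Cfsg.Agent.KFacts.HN
open Cfsg.Agent.CpAutHNFive.TFive
open Cfsg.Agent.H569.HNFive
open Cfsg.Agent.H610.EB Cfsg.Agent.H684.EB
open Subgroup

/-- the centralisers of the 2-elements with `W0 ∈ ⟨x⟩` have one 2-block -/
theorem oneBlock {M : Ideal AlgInt} (hM : IsPModular 2 M) (x : G) (hx : ∃ j : ℕ, orderOf x = 2 ^ j)
    (hW : W0 ∈ zpowers x) : OneBlock M ↥(centralizer ({x} : Set G)) := by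
  obtain ⟨E, h1, h2, h3⟩ := exists_E hx hW
  have : Fact (Nat.Prime 2) := ⟨Nat.prime_two⟩
  have hf : Finite ↥(centralizer ({x} : Set G)) := inferInstance
  exact H104.EB.COne.oneBlock_of_constrained hM E h2 h3

/-- the data of (N8) -/
theorem exists_data : ∃ y : G, Odd (orderOf y) ∧ IsConj y y⁻¹ ∧ Commute W0 y ∧
    (∃ Q : Sylow 2 ↥(centralizer ({y} : Set G)), Nat.card Q = 8 ∧ ¬ IsMulCommutative Q ∧
      ∀ q ∈ Q, Commute W0 (q : G)) ∧
    ∀ α : MulAut G, α y = y → ∃ n : G, α = MulAut.conj n := by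
  obtain ⟨a, b, h⟩ := exists_pair
  refine ⟨(a : G), ?_, ?_, ?_, exists_sylow h.ao h.ρa, fun α hα => inner_of_fix_y h.ρa hα⟩
  · rw [Subgroup.orderOf_coe, h.ao]
    decide
  · obtain ⟨v, -, hv, -⟩ := h.exists_v
    exact isConj_iff.2 ⟨(v : G), congrArg Subtype.val hv⟩
  · exact (W0_comm a).symm

theorem evenB_HN : EvenB G := by
  obtain ⟨y, h1, h2, h3, ⟨Q, h4, h5, h6⟩, h7⟩ := exists_data
  have hfin : Fintype G := Fintype.ofFinite G
  refine evenB_of_out (y := y) ?_ out_index h1 h7 ?_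
  · exact evenS_of_n8 y h1 h2 Q h4 h5 W0 order_W0 h6 h3 fun M hM x hx hW => oneBlock hM x hx hW
  · intro _ k hk M hM
    obtain ⟨Ψ, k1, k2, k3, k4, k5, -, k6, k7⟩ := n8_function hk hM y h1 h2 Q h4 h5 W0 order_W0 h6 h3
      fun x hx hW => oneBlock hM x hx hW
    refine ⟨Ψ, k1, k2, k3, k4, k6, k7, ?_⟩
    intro s hs
    obtain ⟨q, hq1, hq2, hq3⟩ := k5 s hs
    obtain ⟨t, ht⟩ := isConj_iff.1 hq1.symm
    exact ⟨t, q, hq2, hq3, ht.symm⟩

end Cfsg.Agent.H481.EB.HN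

namespace Cfsg.Agent.H481.EB

/-- **The row HN.** -/
theorem evenB_hn {S : Type*} [Group S] (h : Cfsg.Spor.IsoHN S) : H684.EB.EvenB S := by
  obtain ⟨e⟩ := h
  exact evenB_univ e HN.evenB_HN

end Cfsg.Agent.H481.EB
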